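import Groth.Agent.Lib.SubtrRefine4.Instances
import Groth.Agent.S14770
import Groth.Agent.Lib.AlgSp.Bootstrap

/-!
# Refinements of coverings by families
-/

set_option autoImplicit false
set_option backward.isDefEq.respectTransparency false
universe u

open CategoryTheory CategoryTheory.Limits AlgebraicGeometry

noncomputable section

namespace GrothLib.HTopRefine4

/-- A finite coproduct of quasi-compact morphisms of finite type. -/
theorem sigmaDesc_props {Y : Scheme.{u}} [IsNoetherian Y] {σ : Type u} [Finite σ] {W : σ → Scheme.{u}}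
    (f : ∀ j, W j ⟶ Y) [∀ j, LocallyOfFiniteType (f j)] [∀ j, QuasiCompact (f j)] [∀ j, IsSeparated (f j)] :
    LocallyOfFiniteType (Sigma.desc f) ∧ QuasiCompact (Sigma.desc f) ∧ IsSeparated (Sigma.desc f) ∧
      LocallyOfFinitePresentation (Sigma.desc f) := by
  haveI h1 : LocallyOfFiniteType (Sigma.desc f) :=
    IsZariskiLocalAtSource.sigmaDesc (P := @LocallyOfFiniteType) fun j => inferInstance
  haveI : ∀ j, CompactSpace (W j) := fun j => QuasiCompact.compactSpace_of_compactSpace (f j)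
  haveI h3 : IsSeparated (Sigma.desc f) := GrothLib.AlgSp.isSeparated_sigmaDesc f fun j => inferInstance
  haveI : CompactSpace (∐ W : Scheme.{u}) := (sigmaMk W).compactSpace
  haveI : QuasiSeparatedSpace Y := inferInstance
  haveI h2 : QuasiCompact (Sigma.desc f) := inferInstance
  exact ⟨h1, h2, h3, inferInstance⟩

/-- Local open immersions onto a quasi-compact scheme give finitely many sections over opens. -/
theorem exists_opens_lifts {Y : Scheme.{u}} {σ : Type u} {W : σ → Scheme.{u}} (f : ∀ j, W j ⟶ Y)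
    {X' Y' : Scheme.{u}} [CompactSpace Y'] (h : X' ⟶ ∐ W) (p : X' ⟶ Y') (q : Y' ⟶ Y)
    (hw : h ≫ Sigma.desc f = p ≫ q) [Surjective p]
    (hloc : ∀ x : X', ∃ U : X'.Opens, x ∈ U ∧ IsOpenImmersion (U.ι ≫ p)) :
    ∃ (n : ℕ) (V : Fin n → Y'.Opens), ⨆ i, V i = ⊤ ∧
      ∀ i, ∃ (j : σ) (s : (↑(V i) : Scheme.{u}) ⟶ W j), s ≫ f j = (V i).ι ≫ q := by
  have key : ∀ y : Y', ∃ V : Y'.Opens, y ∈ V ∧ ∃ (j : σ) (s : (↑V : Scheme.{u}) ⟶ W j), s ≫ f j = V.ι ≫ q := by
    intro y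
    obtain ⟨x, rfl⟩ := p.surjective y
    obtain ⟨U, hxU, hU⟩ := hloc x
    obtain ⟨⟨j, w⟩, hjw⟩ := (sigmaMk W).surjective (h x)
    rw [sigmaMk_mk] at hjw
    let U' : X'.Opens := U ⊓ h ⁻¹ᵁ (Sigma.ι W j).opensRange
    have hxU' : x ∈ U' := ⟨hxU, w, hjw⟩
    haveI : IsOpenImmersion (U'.ι ≫ p) := by
      rw [← X'.homOfLE_ι (inf_le_left : U' ≤ U), Category.assoc]
      infer_instance
    let e := (U'.ι ≫ p).isoOpensRange
    let t : (↑U' : Scheme.{u}) ⟶ W j := IsOpenImmersion.lift (Sigma.ι W j) (U'.ι ≫ h) (by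
      rintro _ ⟨z, rfl⟩
      exact z.2.2)
    refine ⟨(U'.ι ≫ p).opensRange, ⟨⟨x, hxU'⟩, rfl⟩, j, e.inv ≫ t, ?_⟩
    have h1 : t ≫ f j = U'.ι ≫ p ≫ q := by
      rw [← hw, ← Category.assoc, ← IsOpenImmersion.lift_fac (Sigma.ι W j) (U'.ι ≫ h), Category.assoc,
        Sigma.ι_desc]
    rw [Category.assoc, h1, ← Category.assoc U'.ι, ← Category.assoc, Scheme.Hom.isoOpensRange_inv_comp]
  choose V hyV hV using key
  obtain ⟨s, hs⟩ := isCompact_univ.elim_finite_subcover (fun y => (V y : Set Y')) (fun y => (V y).2)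
    fun y _ => Set.mem_iUnion.2 ⟨y, hyV y⟩
  refine ⟨s.card, fun i => V (s.equivFin.symm i), top_le_iff.1 fun y _ => ?_, fun i => hV _⟩
  obtain ⟨z, hz, hyz⟩ := Set.mem_iUnion₂.1 (hs (Set.mem_univ y))
  exact TopologicalSpace.Opens.mem_iSup.2 ⟨s.equivFin ⟨z, hz⟩, by simpa using hyz⟩

end GrothLib.HTopRefine4
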